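import Mathlib.AlgebraicTopology.SimplicialObject.Homotopy
import Mathlib.CategoryTheory.Limits.FunctorCategory.Basic
import Mathlib.CategoryTheory.Limits.Shapes.Products
import Mathlib.CategoryTheory.Limits.Preserves.Shapes.Products

/-! Products of simplicial homotopies. -/

set_option autoImplicit false

namespace Groth.Agent.PiHtpy

open CategoryTheory CategoryTheory.Limits Opposite Simplicial

universe w v u

variable {C : Type u} [Category.{v} C] {T : Type w} [HasLimitsOfShape (Discrete T) C]
  {X Y : T → SimplicialObject C}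

noncomputable def isLim (Y : T → SimplicialObject C) (n : SimplexCategoryᵒᵖ) :
    IsLimit (Fan.mk ((∏ᶜ Y).obj n) fun t => (Pi.π Y t).app n) :=
  isLimitFanMkObjOfIsLimit ((evaluation _ _).obj n) _ _ (productIsProduct Y)

lemma hom_ext (n : SimplexCategoryᵒᵖ) {W : C} {f g : W ⟶ (∏ᶜ Y).obj n}
    (h : ∀ t, f ≫ (Pi.π Y t).app n = g ≫ (Pi.π Y t).app n) : f = g :=
  Fan.IsLimit.hom_ext (isLim Y n) _ _ h

noncomputable def homotopy (a b : ∀ t, X t ⟶ Y t) (H : ∀ t, SimplicialObject.Homotopy (a t) (b t)) :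
    SimplicialObject.Homotopy (Limits.Pi.map a) (Limits.Pi.map b) := by
  let hh : ∀ {n : ℕ} (i : Fin (n + 1)), (∏ᶜ X).obj (op ⦋n⦌) ⟶ (∏ᶜ Y).obj (op ⦋n + 1⦌) :=
    fun {n} i => Fan.IsLimit.lift (isLim Y _) fun t => (Pi.π X t).app _ ≫ (H t).h i
  have hfac : ∀ {n : ℕ} (i : Fin (n + 1)) (t : T),
      hh i ≫ (Pi.π Y t).app _ = (Pi.π X t).app _ ≫ (H t).h i :=
    fun i t => Fan.IsLimit.fac (isLim Y _) _ t
  have hmap : ∀ (c : ∀ t, X t ⟶ Y t) (n : SimplexCategoryᵒᵖ) (t : T),
      (Limits.Pi.map c).app n ≫ (Pi.π Y t).app n = (Pi.π X t).app n ≫ (c t).app n := by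
    intro c n t
    rw [← NatTrans.comp_app, Pi.map_π, NatTrans.comp_app]
  exact
  { h := hh
    h_zero_comp_δ_zero := fun n => hom_ext _ fun t => by
      simp [SimplicialObject.δ_naturality, hmap, reassoc_of% hfac]
    h_last_comp_δ_last := fun n => hom_ext _ fun t => by
      simp [SimplicialObject.δ_naturality, hmap, reassoc_of% hfac]
    h_succ_comp_δ_castSucc_of_lt := fun i j hij => hom_ext _ fun t => by
      simp [SimplicialObject.δ_naturality, SimplicialObject.δ_naturality_assoc, hfac, reassoc_of% hfac, hij]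
    h_succ_comp_δ_castSucc_succ := fun j => hom_ext _ fun t => by
      simp [SimplicialObject.δ_naturality, reassoc_of% hfac,
        SimplicialObject.Homotopy.h_succ_comp_δ_castSucc_succ]
    h_castSucc_comp_δ_succ_of_lt := fun i j hji => hom_ext _ fun t => by
      simp [SimplicialObject.δ_naturality, SimplicialObject.δ_naturality_assoc, hfac, reassoc_of% hfac, hji]
    h_comp_σ_castSucc_of_le := fun i j hij => hom_ext _ fun t => by
      simp [SimplicialObject.σ_naturality, SimplicialObject.σ_naturality_assoc, hfac, reassoc_of% hfac, hij]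
    h_comp_σ_succ_of_lt := fun i j hji => hom_ext _ fun t => by
      simp [SimplicialObject.σ_naturality, SimplicialObject.σ_naturality_assoc, hfac, reassoc_of% hfac, hji] }

end Groth.Agent.PiHtpy
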